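import Mathlib

/-!
An affine group scheme over an affine base is `Spec` of a Hopf algebra.
-/

set_option autoImplicit false
set_option linter.style.haveILetI false
universe u
open CategoryTheory MonoidalCategory CartesianMonoidalCategory MonObj GrpObj AlgebraicGeometry Opposite
open CategoryTheory.Functor

namespace Groth.Agent.AffGrp.Bridge

variable {R : CommRingCat.{u}}

set_option maxHeartbeats 1000000 in
/-- An affine group scheme over `Spec R` is isomorphic, as a group object, to `Spec` of a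
commutative Hopf algebra. -/
theorem exists_iso (G : Over (Spec R)) [GrpObj G] [IsAffine G.left] :
    ∃ (A : CommRingCat.{u}) (_ : HopfAlgebra R A) (e : (Spec A).asOver (Spec R) ≅ G),
      IsMonHom e.hom := by
  letI : Algebra R Γ(G.left, ⊤) := (Spec.preimage (G.left.isoSpec.inv ≫ G.hom)).hom.toAlgebra
  let X : (CommAlgCat R)ᵒᵖ := op (CommAlgCat.of R Γ(G.left, ⊤))
  let e₁ : G ≅ (algSpec R).obj X := Over.isoMk G.left.isoSpec (by
    simp only [algSpec_obj_hom]
    show G.left.isoSpec.hom ≫ Spec.map (Spec.preimage (G.left.isoSpec.inv ≫ G.hom)) = G.hom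
    rw [Spec.map_preimage, Iso.hom_inv_id_assoc])
  letI hX' : GrpObj ((algSpec R).obj X) := GrpObj.ofIso e₁
  haveI he₁ : IsMonHom e₁.hom :=
    { one_hom := rfl
      mul_hom := by
        show μ[G] ≫ e₁.hom = (e₁.hom ⊗ₘ e₁.hom) ≫ (e₁.inv ⊗ₘ e₁.inv) ≫ μ[G] ≫ e₁.hom
        rw [← Category.assoc (e₁.hom ⊗ₘ e₁.hom), tensorHom_comp_tensorHom, Iso.hom_inv_id]
        simp }
  letI hX : GrpObj X := algSpec.fullyFaithful.grpObj X
  let P : Grp ((CommAlgCat R)ᵒᵖ) := ⟨X⟩
  let F := (commHopfAlgCatEquivCogrpCommAlgCat (↑R : Type u)).functor.leftOp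
  let H := F.objPreimage P
  let iH : F.obj H ≅ P := F.objObjPreimageIso P
  let i₂ : (algSpec R).mapGrp.obj P ≅ Grp.mk ((algSpec R).obj X) :=
    Grp.mkIso (Iso.refl _)
      (by
        show (LaxMonoidal.ε (algSpec R) ≫ (algSpec R).map
          (algSpec.fullyFaithful.preimage (OplaxMonoidal.η (algSpec R) ≫ η[(algSpec R).obj X]))) ≫
          𝟙 _ = η[(algSpec R).obj X]
        rw [Category.comp_id, Functor.FullyFaithful.map_preimage, Monoidal.ε_η_assoc])
      (by
        show (LaxMonoidal.μ (algSpec R) X X ≫ (algSpec R).map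
          (algSpec.fullyFaithful.preimage (OplaxMonoidal.δ (algSpec R) X X ≫ μ[(algSpec R).obj X]))) ≫
          𝟙 _ = (𝟙 _ ⊗ₘ 𝟙 _) ≫ μ[(algSpec R).obj X]
        rw [Category.comp_id, Functor.FullyFaithful.map_preimage, Monoidal.μ_δ_assoc, id_tensorHom_id,
          Category.id_comp])
  let i₃ : (hopfSpec R).obj H ≅ Grp.mk G :=
    (algSpec R).mapGrp.mapIso iH ≪≫ i₂ ≪≫ (Grp.mkIso' e₁).symm
  refine ⟨CommRingCat.of H.unop, H.unop.hopfAlgebra, (Grp.forget _).mapIso i₃, ?_⟩
  exact i₃.hom.hom.isMonHom_hom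

end Groth.Agent.AffGrp.Bridge
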